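import Groth.Agent.AlgSpB.GrpUnibranch.Main

/-!
# The branch count of charts
-/

universe u

open CategoryTheory CategoryTheory.Limits AlgebraicGeometry

set_option backward.isDefEq.respectTransparency false
set_option backward.isDefEq.respectTransparency.types false
set_option autoImplicit false

namespace Groth.Agent.AlgSpB.GrpUnibranch

open _root_.AlgSp

theorem encard_components_le_one {X : Scheme.{u}} {x : X} (h : UniqMax X x) :
    {Z : Set ↑X | Z ∈ irreducibleComponents ↑X ∧ x ∈ Z}.encard ≤ 1 := by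
  refine Set.encard_le_one_iff.2 fun Z₁ Z₂ h₁ h₂ => ?_
  have key : ∀ Z : Set X, Z ∈ irreducibleComponents X → x ∈ Z →
      ∃ z, closure {z} = Z ∧ IsMaxPt z ∧ z ⤳ x := by
    intro Z hZ hxZ
    obtain ⟨z, hz⟩ := QuasiSober.sober hZ.1 (isClosed_of_mem_irreducibleComponents Z hZ)
    refine ⟨z, hz, fun y hy => ?_, hz.specializes hxZ⟩
    have hsub : Z ⊆ closure {y} := hz.def ▸ specializes_iff_closure_subset.1 hy
    have heq : closure {y} = closure {z} :=
      hz.def.symm ▸ (hsub.antisymm (hZ.2 isIrreducible_singleton.closure hsub)).symm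
    exact (specializes_iff_closure_subset.2 heq.ge).antisymm (specializes_iff_closure_subset.2 heq.le) |>.eq
  obtain ⟨z₁, e₁, m₁, s₁⟩ := key Z₁ h₁.1 h₁.2
  obtain ⟨z₂, e₂, m₂, s₂⟩ := key Z₂ h₂.1 h₂.2
  rw [← e₁, ← e₂, h z₁ z₂ m₁ m₂ s₁ s₂]

variable {k : Type u} [Field k]

/-- Groupoids over a field are geometrically unibranch at every arrow. -/
theorem hasAt_unibranch {S : Scheme.{u}} {B : Sp S} (G : GroupoidSp B) (hR : IsAlgSpace G.R)
    (σ : Spec (CommRingCat.of k) ⟶ S) (eU : G.U ≅ (yon S).obj (Over.mk σ)) (r : Points G.R) :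
    HasAt (fun V v => Brnch.numGeomBranchesAt V v = 1) G.R r := by
  obtain ⟨U, a, ha, hs⟩ := hR.atlas
  obtain ⟨u, hu⟩ := (surjective_ofPt hs) r
  refine ⟨U, a, u, ha, hu, ?_⟩
  show Brnch.numGeomBranchesAt U.left u = 1
  rw [Hens.numGeomBranchesAt_eq_iSup]
  refine le_antisymm (iSup_le fun W => iSup_le fun g => iSup_le fun w => iSup_le fun hg => ?_) ?_
  · haveI := hg.1
    let f : Over.mk (g ≫ U.hom) ⟶ U := Over.homMk g rfl
    haveI : Etale f.left := hg.1
    obtain ⟨O, hO, hwO, -⟩ := exists_isAffineOpen_mem_and_subset (x := w) (U := ⊤) trivial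
    let j : Over.mk (O.ι ≫ g ≫ U.hom) ⟶ Over.mk (g ≫ U.hom) := Over.homMk O.ι rfl
    haveI : Etale j.left := inferInstanceAs (Etale O.ι)
    haveI : IsAffine (Over.mk (O.ι ≫ g ≫ U.hom)).left := hO
    exact encard_components_le_one (uniqMax_of_openImmersion O.ι ⟨w, hwO⟩
      (uniqMax_affine G hR σ eU _ _ (repWith_etale_map_comp j (repWith_etale_map_comp f ha)) ⟨w, hwO⟩))
  · refine le_iSup_of_le U.left (le_iSup_of_le (𝟙 _) (le_iSup_of_le u (le_iSup_of_le ⟨inferInstance, rfl⟩ ?_)))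
    exact Set.one_le_encard_iff_nonempty.2 ⟨irreducibleComponent u,
      irreducibleComponent_mem_irreducibleComponents u, mem_irreducibleComponent⟩

end Groth.Agent.AlgSpB.GrpUnibranch
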