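import Groth.Agent.S2691
import Groth.Agent.Hensel.TensorMinimal
import Groth.Agent.EtNormal.Basic
import Groth.Agent.Hens.BranchSup
import Mathlib.AlgebraicGeometry.Morphisms.UniversallyOpen
import Mathlib.AlgebraicGeometry.AlgClosed.Basic

/-!
# Unique generisation through a product map with two sections
-/

universe u

open CategoryTheory CategoryTheory.Limits AlgebraicGeometry TensorProduct

set_option backward.isDefEq.respectTransparency false
set_option backward.isDefEq.respectTransparency.types false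
set_option autoImplicit false
set_option linter.style.haveILetI false

namespace Groth.Agent.AlgSpB.GrpUnibranch

/-- A maximal point for generisation. -/
def IsMaxPt {X : Scheme.{u}} (z : X) : Prop := ∀ y : X, y ⤳ z → y = z

/-- At most one maximal point generises `u`. -/
def UniqMax (X : Scheme.{u}) (u : X) : Prop :=
  ∀ z₁ z₂ : X, IsMaxPt z₁ → IsMaxPt z₂ → z₁ ⤳ u → z₂ ⤳ u → z₁ = z₂

variable {K : Type u} [Field K]

/-- The closed point of `Spec K`. -/
abbrev pt (K : Type u) [Field K] : Spec (CommRingCat.of K) := IsLocalRing.closedPoint K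

/-- A normal integral affine scheme integral over `X` with generic point at a prescribed point. -/
theorem exists_normal {X : Scheme.{u}} [IsAffine X] (sX : X ⟶ Spec (CommRingCat.of K)) (w : X) :
    ∃ (B : Type u) (_ : CommRing B) (_ : IsDomain B) (_ : IsIntegrallyClosed B) (_ : Algebra K B)
      (ν : Spec (CommRingCat.of B) ⟶ X), IsIntegralHom ν ∧
      ν ≫ sX = Spec.map (CommRingCat.ofHom (algebraMap K B)) ∧
      ν (⟨⊥, Ideal.isPrime_bot⟩ : PrimeSpectrum B) = w := by
  obtain ⟨κ, hκ⟩ := Spec.map_surjective (R := CommRingCat.of K) (X.isoSpec.inv ≫ sX)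
  let R := Γ(X, ⊤)
  let P : PrimeSpectrum R := X.isoSpec.hom w
  let D := R ⧸ P.asIdeal
  let F := FractionRing D
  let B := integralClosure D F
  have : IsIntegrallyClosed B := by
    haveI : Algebra.IsAlgebraic D F := IsLocalization.isAlgebraic _ (nonZeroDivisors D)
    haveI : IsFractionRing B F := integralClosure.isFractionRing_of_algebraic
      (fun x hx => IsFractionRing.injective D F (hx.trans (map_zero _).symm))
    exact (isIntegrallyClosed_iff_isIntegrallyClosedIn F).2 inferInstance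
  let φ : R →+* B := (algebraMap D B).comp (Ideal.Quotient.mk P.asIdeal)
  let _ : Algebra K B := (φ.comp κ.hom).toAlgebra
  have hφ : φ.IsIntegral :=
    RingHom.IsIntegral.trans _ _ (RingHom.IsIntegral.of_finite
      (RingHom.Finite.of_surjective _ Ideal.Quotient.mk_surjective))
      (algebraMap_isIntegral_iff.2 (IsIntegralClosure.isIntegral_algebra D F))
  let ν : Spec (CommRingCat.of B) ⟶ X := Spec.map (CommRingCat.ofHom φ) ≫ X.isoSpec.inv
  have : IsIntegralHom (Spec.map (CommRingCat.ofHom φ)) := IsIntegralHom.SpecMap_iff.2 hφ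
  refine ⟨B, inferInstance, inferInstance, inferInstance, inferInstance, ν, inferInstance, ?_, ?_⟩
  · rw [Category.assoc, ← hκ, ← Spec.map_comp]
    rfl
  · have hker : Spec.map (CommRingCat.ofHom φ) (⟨⊥, Ideal.isPrime_bot⟩ : PrimeSpectrum B) = P := by
      apply PrimeSpectrum.ext
      ext r
      show (algebraMap D B) (Ideal.Quotient.mk P.asIdeal r) ∈ (⊥ : Ideal B) ↔ r ∈ P.asIdeal
      rw [Ideal.mem_bot, map_eq_zero_iff _ (fun a b hab => IsFractionRing.injective D F (congrArg Subtype.val hab)),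
        Ideal.Quotient.eq_zero_iff_mem]
    rw [Scheme.Hom.comp_apply, hker]
    exact Scheme.hom_inv_apply X.isoSpec w

variable [IsAlgClosed K]

/-- A rational point lifts along an integral morphism through any point over it. -/
theorem exists_lift_point {Y Y' : Scheme.{u}} (ν : Y' ⟶ Y) [IsIntegralHom ν]
    (y : Spec (CommRingCat.of K) ⟶ Y) (y' : Y') (h : ν y' = y (pt K)) :
    ∃ l : Spec (CommRingCat.of K) ⟶ Y', l ≫ ν = y ∧ l (pt K) = y' := by
  obtain ⟨p, hp₁, hp₂⟩ := Scheme.Pullback.exists_preimage_pullback (f := ν) (g := y) y' (pt K) h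
  let P := pullback ν y
  have : IsIntegralHom (pullback.snd ν y) := inferInstance
  have : IsAffine P := isAffine_of_isAffineHom (pullback.snd ν y)
  obtain ⟨κ, hκ⟩ := Spec.map_surjective (R := CommRingCat.of K) (P.isoSpec.inv ≫ pullback.snd ν y)
  let R := Γ(P, ⊤)
  let q : PrimeSpectrum R := P.isoSpec.hom p
  have hκi : κ.hom.IsIntegral := IsIntegralHom.SpecMap_iff.1 (hκ ▸ inferInstance)
  let ψ : K →+* R ⧸ q.asIdeal := (Ideal.Quotient.mk q.asIdeal).comp κ.hom
  have hψ : Function.Bijective ψ := IsAlgClosed.ringHom_bijective_of_isIntegral _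
    (RingHom.IsIntegral.trans _ _ hκi (RingHom.IsIntegral.of_finite
      (RingHom.Finite.of_surjective _ Ideal.Quotient.mk_surjective)))
  let e := RingEquiv.ofBijective ψ hψ
  let σ : R →+* K := e.symm.toRingHom.comp (Ideal.Quotient.mk q.asIdeal)
  let s : Spec (CommRingCat.of K) ⟶ P := Spec.map (CommRingCat.ofHom σ) ≫ P.isoSpec.inv
  have hs : s ≫ pullback.snd ν y = 𝟙 _ := by
    rw [Category.assoc, ← hκ, ← Spec.map_comp, ← Spec.map_id]
    congr 1
    ext a
    exact e.symm_apply_apply a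
  have hsp : s (pt K) = p := by
    have : Spec.map (CommRingCat.ofHom σ) (pt K) = q := by
      apply PrimeSpectrum.ext
      ext r
      show σ r ∈ IsLocalRing.maximalIdeal K ↔ r ∈ q.asIdeal
      rw [IsLocalRing.maximalIdeal_eq_bot, Ideal.mem_bot]
      show e.symm (Ideal.Quotient.mk q.asIdeal r) = 0 ↔ _
      rw [map_eq_zero_iff _ e.symm.injective, Ideal.Quotient.eq_zero_iff_mem]
    rw [Scheme.Hom.comp_apply, this]
    exact Scheme.hom_inv_apply P.isoSpec p
  refine ⟨s ≫ pullback.fst ν y, ?_, ?_⟩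
  · rw [Category.assoc, pullback.condition, reassoc_of% hs]
  · rw [Scheme.Hom.comp_apply, hsp, hp₁]

/-- A generisation of a rational point lifts, with the point, along an integral morphism. -/
theorem exists_lift_point_above {Y Y' : Scheme.{u}} (ν : Y' ⟶ Y) [IsIntegralHom ν]
    (y : Spec (CommRingCat.of K) ⟶ Y) (η : Y') (h : ν η ⤳ y (pt K)) :
    ∃ l : Spec (CommRingCat.of K) ⟶ Y', l ≫ ν = y ∧ η ⤳ l (pt K) := by
  obtain ⟨y', h₁, h₂⟩ := ν.isClosedMap.specializingMap h
  obtain ⟨l, hl, hl'⟩ := exists_lift_point ν y y' h₂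
  exact ⟨l, hl, hl' ▸ h₁⟩

/-- The spectrum of a normal domain is a normal scheme. -/
theorem isNormalScheme_spec (T : Type u) [CommRing T] [IsDomain T] [IsIntegrallyClosed T] :
    Pi1.IsNormalScheme (Spec (CommRingCat.of T)) := fun z => by
  letI : Algebra T ((Spec (CommRingCat.of T)).presheaf.stalk z) := StructureSheaf.stalkAlgebra T z
  haveI : IsLocalization.AtPrime ((Spec (CommRingCat.of T)).presheaf.stalk z) z.asIdeal :=
    StructureSheaf.IsLocalization.to_stalk T z
  let e : Localization.AtPrime z.asIdeal ≃ₐ[T] ((Spec (CommRingCat.of T)).presheaf.stalk z : Type u) :=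
    IsLocalization.algEquiv z.asIdeal.primeCompl _ _
  haveI : IsDomain (Localization.AtPrime z.asIdeal) :=
    IsLocalization.isDomain_localization z.asIdeal.primeCompl_le_nonZeroDivisors
  haveI : IsIntegrallyClosed (Localization.AtPrime z.asIdeal) :=
    isIntegrallyClosed_of_isLocalization _ _ z.asIdeal.primeCompl_le_nonZeroDivisors
  exact ⟨MulEquiv.isDomain (Localization.AtPrime z.asIdeal) e.symm.toRingEquiv.toMulEquiv,
    IsIntegrallyClosed.of_equiv e.toRingEquiv⟩

/-- All generisations of a point with integral local ring generise from one point. -/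
theorem exists_generic {X : Scheme.{u}} (x : X) [IsDomain (X.presheaf.stalk x)] :
    ∃ c : X, c ⤳ x ∧ ∀ y : X, y ⤳ x → c ⤳ y := by
  let b : Spec (X.presheaf.stalk x) := (⟨⊥, Ideal.isPrime_bot⟩ : PrimeSpectrum (X.presheaf.stalk x))
  refine ⟨X.fromSpecStalk x b, ?_, fun y hy => ?_⟩
  · have : X.fromSpecStalk x b ∈ {y | y ⤳ x} := Scheme.range_fromSpecStalk (X := X) ▸ ⟨b, rfl⟩
    exact this
  · obtain ⟨P, rfl⟩ : y ∈ Set.range (X.fromSpecStalk x) := by rw [Scheme.range_fromSpecStalk]; exact hy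
    exact ((PrimeSpectrum.le_iff_specializes _ _).1 bot_le).map (X.fromSpecStalk x).continuous

/-- The main lemma: a map from an etale scheme over a product which restricts on two sections to
generalizing maps sends the generisations of the base point to a unique maximal point. -/
theorem uniqMax_of_sections {U X V Q V' : Scheme.{u}} [IsAffine X] [IsAffine V]
    (sX : X ⟶ Spec (CommRingCat.of K)) (sV : V ⟶ Spec (CommRingCat.of K))
    (p : Q ⟶ pullback sX sV) [Etale p] (g : Q ⟶ U)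
    (x : Spec (CommRingCat.of K) ⟶ X) (hx : x ≫ sX = 𝟙 _)
    (v : Spec (CommRingCat.of K) ⟶ V) (hv : v ≫ sV = 𝟙 _)
    (s₁ : X ⟶ Q) (h₁ : s₁ ≫ p = pullback.lift (𝟙 X) (sX ≫ v) (by simp [hv]))
    (hf₁ : GeneralizingMap (s₁ ≫ g))
    (a : V' ⟶ V) (v' : Spec (CommRingCat.of K) ⟶ V') (hv' : v' ≫ a = v)
    (s₂ : V' ⟶ Q) (h₂ : s₂ ≫ p = pullback.lift (a ≫ sV ≫ x) a (by simp [hx]))
    (hf₂ : GeneralizingMap (s₂ ≫ g))
    (hq : x ≫ s₁ = v' ≫ s₂) : UniqMax U ((x ≫ s₁ ≫ g) (pt K)) := by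
  intro z z₀ hz hz₀ hzu hz₀u
  have hu₂ : (s₂ ≫ g) (v' (pt K)) = (x ≫ s₁ ≫ g) (pt K) := by
    rw [← Scheme.Hom.comp_apply, reassoc_of% hq]
  obtain ⟨y, hyv', hy⟩ := hf₂ (hu₂.symm ▸ hz₀u)
  obtain ⟨w, hwx, hw⟩ := hf₁ (show z ⤳ (s₁ ≫ g) (x (pt K)) by rwa [← Scheme.Hom.comp_apply])
  obtain ⟨B₁, _, _, _, _, ν₁, _, hν₁, hν₁w⟩ := exists_normal sX w
  obtain ⟨B₂, _, _, _, _, ν₂, _, hν₂, hν₂a⟩ := exists_normal sV (a y)
  obtain ⟨l₁, hl₁, hηl₁⟩ := exists_lift_point_above ν₁ x _ (hν₁w.symm ▸ hwx)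
  obtain ⟨η'', hη''₁, hη''₂⟩ := Scheme.Pullback.exists_preimage_pullback (f := a) (g := ν₂) y _ hν₂a.symm
  obtain ⟨m, hm, hηm⟩ := exists_lift_point_above (pullback.fst a ν₂) v' η'' (hη''₁.symm ▸ hyv')
  let t₁ := Spec.map (CommRingCat.ofHom (algebraMap K B₁))
  let t₂ := Spec.map (CommRingCat.ofHom (algebraMap K B₂))
  let l₂ := m ≫ pullback.snd a ν₂
  have hl₁' : l₁ ≫ t₁ = 𝟙 _ := by rw [← hx, ← hl₁, Category.assoc, hν₁]
  have hl₂ : l₂ ≫ ν₂ = v := by
    rw [Category.assoc, ← pullback.condition, reassoc_of% hm, hv']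
  have hl₂' : l₂ ≫ t₂ = 𝟙 _ := (show l₂ ≫ t₂ = l₂ ≫ ν₂ ≫ sV by rw [hν₂]).trans
    ((Category.assoc _ _ _).symm.trans (by rw [hl₂, hv]))
  let N := pullback t₁ t₂
  let ν : N ⟶ pullback sX sV := pullback.map _ _ _ _ ν₁ ν₂ (𝟙 _)
    (by rw [Category.comp_id, hν₁]) (by rw [Category.comp_id, hν₂])
  let Qt := pullback p ν
  have hN : Pi1.IsNormalScheme N := by
    haveI := Hensel.TensorMinimal.isDomain_tensor K B₁ B₂
    haveI := Hensel.TensorMinimal.isIntegrallyClosed_tensor K B₁ B₂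
    exact EtNormal.isNormalScheme_of_etale (pullbackSpecIso K B₁ B₂).hom (isNormalScheme_spec _)
  have hQt : Pi1.IsNormalScheme Qt := EtNormal.isNormalScheme_of_etale (pullback.snd p ν) hN
  let k₁ : Spec (CommRingCat.of B₁) ⟶ N := pullback.lift (𝟙 _) (t₁ ≫ l₂) (by simp [hl₂'])
  let k₂ : pullback a ν₂ ⟶ N := pullback.lift (pullback.snd a ν₂ ≫ t₂ ≫ l₁) (pullback.snd a ν₂) (by simp [hl₁'])
  let σ₁ : Spec (CommRingCat.of B₁) ⟶ Qt := pullback.lift (ν₁ ≫ s₁) k₁ (by
    apply pullback.hom_ext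
    · simp [h₁, ν, k₁]
      exact (Category.id_comp _).symm
    · simp [h₁, ν, k₁, reassoc_of% hν₁, t₁, hl₂])
  let σ₂ : pullback a ν₂ ⟶ Qt := pullback.lift (pullback.fst a ν₂ ≫ s₂) k₂ (by
    apply pullback.hom_ext
    · simp [h₂, ν, k₂, hl₁, pullback.condition_assoc, reassoc_of% hν₂, t₂]
    · simp [h₂, ν, k₂, pullback.condition])
  have hpt : l₁ ≫ σ₁ = m ≫ σ₂ := by
    apply pullback.hom_ext
    · simp [σ₁, σ₂, reassoc_of% hl₁, reassoc_of% hm, hq]
    · apply pullback.hom_ext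
      · simp only [σ₁, σ₂, k₁, k₂, Category.assoc, pullback.lift_snd, pullback.lift_fst, Category.comp_id]
        rw [← Category.assoc m, show m ≫ pullback.snd a ν₂ = l₂ from rfl, reassoc_of% hl₂']
      · simp only [σ₁, σ₂, k₁, k₂, Category.assoc, pullback.lift_snd, Category.comp_id]
        rw [reassoc_of% hl₁']
  let q := (l₁ ≫ σ₁) (pt K)
  have := (hQt q).1
  obtain ⟨c, -, hc⟩ := exists_generic q
  have e₁ : (pullback.fst p ν ≫ g) c = z := hz _ (by
    have : c ⤳ σ₁ (⟨⊥, Ideal.isPrime_bot⟩ : PrimeSpectrum B₁) := hc _ (by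
      show _ ⤳ (l₁ ≫ σ₁) (pt K)
      rw [Scheme.Hom.comp_apply]
      exact hηl₁.map σ₁.continuous)
    have := this.map (pullback.fst p ν ≫ g).continuous
    rwa [← Scheme.Hom.comp_apply σ₁, show σ₁ ≫ pullback.fst p ν ≫ g = ν₁ ≫ s₁ ≫ g by simp [σ₁],
      Scheme.Hom.comp_apply ν₁, hν₁w, hw] at this)
  have e₂ : (pullback.fst p ν ≫ g) c = z₀ := hz₀ _ (by
    have : c ⤳ σ₂ η'' := hc _ (by
      show _ ⤳ (l₁ ≫ σ₁) (pt K)
      rw [hpt, Scheme.Hom.comp_apply]
      exact hηm.map σ₂.continuous)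
    have := this.map (pullback.fst p ν ≫ g).continuous
    rwa [← Scheme.Hom.comp_apply σ₂,
      show σ₂ ≫ pullback.fst p ν ≫ g = pullback.fst a ν₂ ≫ s₂ ≫ g by simp [σ₂],
      Scheme.Hom.comp_apply (pullback.fst a ν₂), hη''₁, hy] at this)
  exact e₁.symm.trans e₂

end Groth.Agent.AlgSpB.GrpUnibranch
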