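import Groth.Prelude.Def_AlgSpGpd
import Mathlib.CategoryTheory.Groupoid

/-!
# Calculus of points of a groupoid in sheaves
-/

universe u

open CategoryTheory CategoryTheory.Limits AlgebraicGeometry

set_option backward.isDefEq.respectTransparency false
set_option backward.isDefEq.respectTransparency.types false
set_option autoImplicit false

namespace Groth.Agent.AlgSpB.GrpUnibranch

variable {S : Scheme.{u}} {B : AlgSp.Sp S} (G : AlgSp.GroupoidSp B)

/-- `α ∘ β` for composable points. -/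
noncomputable def cmp {T : AlgSp.Sp S} (α β : T ⟶ G.R) (h : α ≫ G.s = β ≫ G.t) : T ⟶ G.R :=
  pullback.lift α β h ≫ G.c

theorem cmp_congr {T : AlgSp.Sp S} {α α' β β' : T ⟶ G.R} (h : α ≫ G.s = β ≫ G.t)
    (h' : α' ≫ G.s = β' ≫ G.t) (e₁ : α = α') (e₂ : β = β') : cmp G α β h = cmp G α' β' h' := by
  subst e₁; subst e₂; rfl

theorem comp_cmp {T T' : AlgSp.Sp S} (f : T' ⟶ T) (α β : T ⟶ G.R) (h : α ≫ G.s = β ≫ G.t) :
    f ≫ cmp G α β h = cmp G (f ≫ α) (f ≫ β) (by rw [Category.assoc, Category.assoc, h]) := by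
  simp only [cmp, ← Category.assoc]
  congr 1
  apply pullback.hom_ext <;> simp [pullback.lift_fst, pullback.lift_snd]

/-- `T`-points of the objects. -/
structure Obj (T : AlgSp.Sp S) where
  /-- the point -/
  x : T ⟶ G.U

variable {G}
variable {T : AlgSp.Sp S}

noncomputable instance : Groupoid (Obj G T) where
  Hom x y := {α : T ⟶ G.R // α ≫ G.s = x.x ∧ α ≫ G.t = y.x}
  id x := ⟨x.x ≫ G.e, by rw [Category.assoc, G.e_s, Category.comp_id],
    by rw [Category.assoc, G.e_t, Category.comp_id]⟩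
  comp f g := ⟨cmp G g.1 f.1 (g.2.1.trans f.2.2.symm),
    (G.comp_s _ _ _).trans f.2.1, (G.comp_t _ _ _).trans g.2.2⟩
  id_comp {x y} f := Subtype.ext <| by
    refine (cmp_congr G _ ?_ rfl ?_).trans (G.comp_e f.1)
    · rw [Category.assoc, Category.assoc, G.e_t, Category.comp_id]
    · show x.x ≫ G.e = _
      rw [← Category.assoc f.1, f.2.1]
  comp_id {x y} f := Subtype.ext <| by
    refine (cmp_congr G _ ?_ ?_ rfl).trans (G.e_comp f.1)
    · rw [Category.assoc, Category.assoc, G.e_s, Category.comp_id]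
    · show y.x ≫ G.e = _
      rw [← Category.assoc f.1, f.2.2]
  assoc f g h := Subtype.ext (G.assoc h.1 g.1 f.1 (h.2.1.trans g.2.2.symm) (g.2.1.trans f.2.2.symm)).symm
  inv f := ⟨f.1 ≫ G.i, by rw [Category.assoc, G.i_s]; exact f.2.2, by rw [Category.assoc, G.i_t]; exact f.2.1⟩
  inv_comp {x y} f := Subtype.ext <| by
    exact (G.comp_i f.1).trans ((Category.assoc _ _ _).symm.trans (congrArg (· ≫ G.e) f.2.2))
  comp_inv {x y} f := Subtype.ext <| by
    exact (G.i_comp f.1).trans ((Category.assoc _ _ _).symm.trans (congrArg (· ≫ G.e) f.2.1))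

variable (G)

/-- A point as an arrow. -/
noncomputable def arr (α : T ⟶ G.R) : (⟨α ≫ G.s⟩ : Obj G T) ⟶ ⟨α ≫ G.t⟩ := ⟨α, rfl, rfl⟩

/-- `α ∘ β⁻¹` for points with the same source. -/
noncomputable def dv (α β : T ⟶ G.R) (h : α ≫ G.s = β ≫ G.s) : T ⟶ G.R :=
  cmp G α (β ≫ G.i) (by rw [Category.assoc, G.i_t]; exact h)

theorem comp_dv {T' : AlgSp.Sp S} (f : T' ⟶ T) (α β : T ⟶ G.R) (h : α ≫ G.s = β ≫ G.s) :
    f ≫ dv G α β h = dv G (f ≫ α) (f ≫ β) (by rw [Category.assoc, Category.assoc, h]) :=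
  (comp_cmp G f _ _ _).trans (cmp_congr G _ _ rfl (Category.assoc _ _ _).symm)

theorem dv_congr {α α' β β' : T ⟶ G.R} (h : α ≫ G.s = β ≫ G.s)
    (h' : α' ≫ G.s = β' ≫ G.s) (e₁ : α = α') (e₂ : β = β') : dv G α β h = dv G α' β' h' := by
  subst e₁; subst e₂; rfl

/-- Dividing by an identity does nothing. -/
theorem dv_id (α : T ⟶ G.R) :
    dv G α ((α ≫ G.s) ≫ G.e) (by simp [G.e_s]) = α := by
  let f := arr G α
  have h : Groupoid.inv (𝟙 (⟨α ≫ G.s⟩ : Obj G T)) ≫ f = f := by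
    rw [Groupoid.inv_eq_inv, IsIso.inv_id, Category.id_comp]
  exact congrArg Subtype.val h

/-- The composite `α⁻¹ ∘ r` has the source of `r` and divides `r` to `α`. -/
theorem dv_cmp (α r : T ⟶ G.R) (h : α ≫ G.t = r ≫ G.t) :
    dv G r (cmp G (α ≫ G.i) r (by rw [Category.assoc, G.i_s]; exact h))
      (G.comp_s _ _ _).symm = α := by
  let f : (⟨r ≫ G.s⟩ : Obj G T) ⟶ ⟨r ≫ G.t⟩ := arr G r
  let g : (⟨α ≫ G.s⟩ : Obj G T) ⟶ ⟨r ≫ G.t⟩ := ⟨α, rfl, h⟩
  have e : Groupoid.inv (f ≫ Groupoid.inv g) ≫ f = g := by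
    simp only [Groupoid.inv_eq_inv]
    simp
  exact congrArg Subtype.val e

/-- `r⁻¹ ∘ r` is the identity of the source. -/
theorem cmp_inv_self (r : T ⟶ G.R) :
    cmp G (r ≫ G.i) r (by rw [Category.assoc, G.i_s]) = (r ≫ G.s) ≫ G.e :=
  (G.i_comp r).trans (Category.assoc _ _ _).symm

end Groth.Agent.AlgSpB.GrpUnibranch
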