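import Groth.Agent.AlgSpB.GrpUnibranch.Core
import Groth.Agent.AlgSpB.GrpUnibranch.TPoints
import Groth.Agent.AlgSpB.FieldPoints
import Groth.Agent.AlgSpB.Points
import Groth.Prelude.Def_Brnch

/-!
# Groupoids over a field are geometrically unibranch
-/

universe u

open CategoryTheory CategoryTheory.Limits AlgebraicGeometry

set_option backward.isDefEq.respectTransparency false
set_option backward.isDefEq.respectTransparency.types false
set_option autoImplicit false

namespace Groth.Agent.AlgSpB.GrpUnibranch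

open _root_.AlgSp

theorem isAffine_pullback {S : Scheme.{u}} {X Y Z : Over S} [IsAffine X.left] [IsAffine Y.left] [IsAffine Z.left]
    (f : X ⟶ Z) (g : Y ⟶ Z) : IsAffine (pullback f g).left :=
  let e : (pullback f g).left ≅ pullback f.left g.left :=
    ((IsPullback.of_hasPullback f g).map (Over.forget S)).isoPullback
  .of_isIso e.hom

theorem uniqMax_of_openImmersion {U X : Scheme.{u}} (j : U ⟶ X) [IsOpenImmersion j] (u : U)
    (h : UniqMax U u) : UniqMax X (j u) := by
  intro z₁ z₂ hz₁ hz₂ h₁ h₂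
  obtain ⟨w₁, hw₁, rfl⟩ := j.isOpenEmbedding.generalizingMap h₁
  obtain ⟨w₂, hw₂, rfl⟩ := j.isOpenEmbedding.generalizingMap h₂
  rw [h w₁ w₂ (fun y hy => j.isOpenEmbedding.injective (hz₁ _ (hy.map j.continuous)))
    (fun y hy => j.isOpenEmbedding.injective (hz₂ _ (hy.map j.continuous))) hw₁ hw₂]

variable {k : Type u} [Field k]

/-- Etale affine charts of the arrows of a groupoid over a field have unique generisations. -/
theorem uniqMax_affine {S : Scheme.{u}} {B : Sp S} (G : GroupoidSp B) (hR : IsAlgSpace G.R)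
    (σ : Spec (CommRingCat.of k) ⟶ S) (eU : G.U ≅ (yon S).obj (Over.mk σ))
    (U : Over S) [IsAffine U.left] (a : (yon S).obj U ⟶ G.R) (ha : RepWith @Etale a) (u : U.left) :
    UniqMax U.left u := by
  let ko : Over S := Over.mk σ
  let K := AlgebraicClosure (U.left.residueField u)
  let ι : Spec (CommRingCat.of K) ⟶ U.left :=
    Spec.map (CommRingCat.ofHom (algebraMap (U.left.residueField u) K)) ≫ U.left.fromSpecResidueField u
  let Ko : Over S := Over.mk (ι ≫ U.hom)
  let ub : Ko ⟶ U := Over.homMk ι rfl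
  have hub : ub.left (pt K) = u := by
    show ι (pt K) = u
    rw [Scheme.Hom.comp_apply]
    exact Scheme.fromSpecResidueField_apply _ _
  obtain ⟨sU, hsU⟩ : ∃ sU : U ⟶ ko, a ≫ G.s = (yon S).map sU ≫ eU.inv := ⟨(yon S).preimage (a ≫ G.s ≫ eU.hom), by
    rw [Functor.map_preimage]; simp only [Category.assoc, Iso.hom_inv_id, Category.comp_id]⟩
  obtain ⟨tU, htU⟩ : ∃ tU : U ⟶ ko, a ≫ G.t = (yon S).map tU ≫ eU.inv := ⟨(yon S).preimage (a ≫ G.t ≫ eU.hom), by
    rw [Functor.map_preimage]; simp only [Category.assoc, Iso.hom_inv_id, Category.comp_id]⟩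
  let ς : Ko ⟶ ko := ub ≫ sU
  let τ : Ko ⟶ ko := ub ≫ tU
  let eς : (yon S).obj Ko ⟶ G.R := ((yon S).map ς ≫ eU.inv) ≫ G.e
  obtain ⟨W₀, b₀, w₀, hb₀, hw₀⟩ : ∃ (W : Over S) (b : (yon S).obj W ⟶ G.R) (w : W.left),
      RepWith @Etale b ∧ Points.ofPt b w = Points.ofPt eς (pt K) := by
    obtain ⟨W, b, hb, hs⟩ := hR.atlas
    obtain ⟨E, q, hq⟩ : ∃ (E : Over S) (q : E ⟶ Ko), Surjective q.left ∧ ∃ fst : (yon S).obj E ⟶ (yon S).obj W,
        IsPullback fst ((yon S).map q) b eς :=
      ⟨hb.1.pullback eς, hb.1.snd eς, hs.2 _ _ _ (hb.1.isPullback eς), hb.1.fst eς, hb.1.isPullback eς⟩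
    obtain ⟨hsurj, fst, sq⟩ := hq
    obtain ⟨e, he⟩ := q.left.surjective (pt K)
    refine ⟨W, b, ((yon S).preimage fst).left e, hb, ?_⟩
    rw [← ofPt_map_comp, Functor.map_preimage, sq.w, ofPt_map_comp, he]
  obtain ⟨O, hO, hw₀O, -⟩ := exists_isAffineOpen_mem_and_subset (x := w₀) (U := ⊤) trivial
  let W : Over S := Over.mk (O.ι ≫ W₀.hom)
  let jW : W ⟶ W₀ := Over.homMk O.ι rfl
  have : IsAffine W.left := hO
  haveI : IsOpenImmersion jW.left := inferInstanceAs (IsOpenImmersion O.ι)
  let b : (yon S).obj W ⟶ G.R := (yon S).map jW ≫ b₀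
  have hb : RepWith @Etale b := repWith_etale_map_comp jW hb₀
  let sW : W ⟶ ko := (yon S).preimage (b ≫ G.s ≫ eU.hom)
  have hsW : b ≫ G.s = (yon S).map sW ≫ eU.inv := by
    rw [Functor.map_preimage]; simp only [Category.assoc, Iso.hom_inv_id, Category.comp_id]
  have hcancel : ∀ {T : Over S} (f g : T ⟶ ko), (yon S).map f ≫ eU.inv = (yon S).map g ≫ eU.inv → f = g :=
    fun f g h => (yon S).map_injective ((cancel_mono eU.inv).1 h)
  -- a rational point of the chart at the identity
  obtain ⟨wb, hwb⟩ : ∃ wb : Ko ⟶ W, (yon S).map wb ≫ b = eς := by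
    obtain ⟨p, -, hp⟩ := exists_of_isPullback (hb.1.isPullback eς) (Points.ofScheme W ⟨w₀, hw₀O⟩)
      (Points.ofScheme Ko (pt K)) (by
        rw [← Points.ofPt_eq_map_ofScheme, ← Points.ofPt_eq_map_ofScheme, ofPt_map_comp]
        exact hw₀)
    have : Etale (hb.1.snd eς).left := hb.2 _ _ _ (hb.1.isPullback eς)
    obtain ⟨s, hs, -⟩ := exists_section_of_etale (K := K) (hb.1.snd eς).left
      (Points.toScheme _ p)
    let so : Ko ⟶ hb.1.pullback eς := Over.homMk s (by
      rw [← Over.w (hb.1.snd eς), reassoc_of% hs])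
    have hso : so ≫ hb.1.snd eς = 𝟙 _ := Over.OverMorphism.ext hs
    refine ⟨(yon S).preimage ((yon S).map so ≫ hb.1.fst eς), ?_⟩
    rw [Functor.map_preimage, Category.assoc, hb.1.w, ← Category.assoc, ← Functor.map_comp, hso]
    erw [(yon S).map_id, Category.id_comp]
  have hwς : wb ≫ sW = ς := hcancel _ _ (by
    rw [Functor.map_comp, Category.assoc, ← hsW, ← Category.assoc, hwb]
    simp only [eς, Category.assoc, G.e_s, Category.comp_id])
  have : IsAffine ko.left := inferInstanceAs (IsAffine (Spec _))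
  have : IsAffine Ko.left := inferInstanceAs (IsAffine (Spec _))
  let X := pullback sU ς
  let V := pullback sW ς
  let Ut := pullback tU τ
  have : IsAffine X.left := isAffine_pullback _ _
  have : IsAffine V.left := isAffine_pullback _ _
  let sX : X ⟶ Ko := pullback.snd sU ς
  let sV : V ⟶ Ko := pullback.snd sW ς
  let x : Ko ⟶ X := pullback.lift ub (𝟙 _) (by simp [ς])
  let v : Ko ⟶ V := pullback.lift wb (𝟙 _) (by simp [hwς])
  let P := pullback sX sV
  let π₁ : P ⟶ X := pullback.fst sX sV
  let π₂ : P ⟶ V := pullback.snd sX sV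
  -- division on the product
  let αP : (yon S).obj P ⟶ G.R := (yon S).map (π₁ ≫ pullback.fst sU ς) ≫ a
  let βP : (yon S).obj P ⟶ G.R := (yon S).map (π₂ ≫ pullback.fst sW ς) ≫ b
  have hP : αP ≫ G.s = βP ≫ G.s := by
    simp only [αP, βP, Category.assoc, hsU, hsW, ← Functor.map_comp_assoc]
    rw [pullback.condition, pullback.condition, pullback.condition_assoc]
  let fP := dv G αP βP hP
  let Q := ha.1.pullback fP
  let gQ : Q ⟶ U := (yon S).preimage (ha.1.fst fP)
  have hsnd : Etale (ha.1.snd fP).left := ha.2 _ _ _ (ha.1.isPullback fP)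
  -- the first section
  let l₁ : X ⟶ P := pullback.lift (𝟙 _) (sX ≫ v) (by simp [v, sV, pullback.lift_snd])
  have h₁ : (yon S).map (pullback.fst sU ς) ≫ a = (yon S).map l₁ ≫ fP := by
    rw [comp_dv]
    refine ((dv_congr G _ _ ?_ ?_).trans (dv_id G ((yon S).map (pullback.fst sU ς) ≫ a))).symm
    · simp only [αP, ← Functor.map_comp_assoc, π₁, l₁, pullback.lift_fst_assoc, Category.id_comp]
    · simp only [βP, ← Functor.map_comp_assoc, π₂, l₁, v, pullback.lift_snd_assoc, Category.assoc,
        pullback.lift_fst, sX]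
      rw [Functor.map_comp_assoc, hwb, reassoc_of% hsU]
      simp only [eς, ← Functor.map_comp_assoc, Category.assoc, pullback.condition]
  let s₁ : X ⟶ Q := ha.1.lift _ l₁ h₁
  -- the second section
  let αU : (yon S).obj Ut ⟶ G.R := (yon S).map (pullback.fst tU τ) ≫ a
  let rU : (yon S).obj Ut ⟶ G.R := (yon S).map (pullback.snd tU τ ≫ ub) ≫ a
  have hU : αU ≫ G.t = rU ≫ G.t := by
    simp only [αU, rU, Category.assoc, htU, ← Functor.map_comp_assoc]
    rw [pullback.condition]
  let c := cmp G (αU ≫ G.i) rU (by rw [Category.assoc, G.i_s]; exact hU)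
  let V' := hb.1.pullback c
  let prW : V' ⟶ W := (yon S).preimage (hb.1.fst c)
  let toUt : V' ⟶ Ut := hb.1.snd c
  have hV' : (yon S).map prW ≫ b = (yon S).map toUt ≫ c := by rw [Functor.map_preimage]; exact hb.1.w c
  let a' : V' ⟶ V := pullback.lift prW (toUt ≫ pullback.snd tU τ) (hcancel _ _ (by
    rw [Functor.map_comp, Category.assoc, ← hsW, ← Category.assoc, hV', Category.assoc,
      show c ≫ G.s = rU ≫ G.s from G.comp_s _ _ _]
    simp only [rU, Category.assoc, hsU, ← Functor.map_comp_assoc, ς]))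
  let l₂ : V' ⟶ P := pullback.lift (a' ≫ sV ≫ x) a' (by simp [x, sX, pullback.lift_snd])
  have h₂ : (yon S).map (toUt ≫ pullback.fst tU τ) ≫ a = (yon S).map l₂ ≫ fP := by
    rw [comp_dv]
    have e := congrArg ((yon S).map toUt ≫ ·) (dv_cmp G αU rU hU)
    simp only [comp_dv] at e
    refine ((dv_congr G _ _ ?_ ?_).trans (e.trans ?_)).symm
    · simp only [αP, rU, ← Functor.map_comp_assoc, π₁, l₂, pullback.lift_fst_assoc, Category.assoc,
        x, pullback.lift_fst, a', sV, pullback.lift_snd_assoc]
    · simp only [βP, ← Functor.map_comp_assoc, π₂, l₂, a', pullback.lift_snd_assoc, pullback.lift_fst]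
      exact hV'
    · simp only [αU, ← Functor.map_comp_assoc]
  let s₂ : V' ⟶ Q := ha.1.lift _ l₂ h₂
  let lU : Ko ⟶ Ut := pullback.lift ub (𝟙 _) (by simp [τ])
  have h₃ : (yon S).map wb ≫ b = (yon S).map lU ≫ c := by
    rw [hwb, comp_cmp]
    refine ((cmp_congr G _ _ ?_ ?_).trans ((cmp_inv_self G ((yon S).map ub ≫ a)).trans ?_)).symm
    · simp only [αU, ← Functor.map_comp_assoc, lU, pullback.lift_fst, Category.assoc]
    · simp only [rU, ← Functor.map_comp_assoc, lU, pullback.lift_snd_assoc, Category.id_comp]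
    · simp only [eς, ς, Category.assoc, Functor.map_comp]
      rw [← Category.assoc a, hsU]
      simp only [Category.assoc]
  let v' : Ko ⟶ V' := hb.1.lift _ lU h₃
  have hv' : v' ≫ a' = v := by
    apply pullback.hom_ext
    · apply (yon S).map_injective
      simp only [a', v, Category.assoc, pullback.lift_fst, Functor.map_comp, prW, Functor.map_preimage]
      exact hb.1.lift_fst _ _ _
    · simp only [a', v, Category.assoc, pullback.lift_snd]
      rw [← Category.assoc, hb.1.lift_snd]
      simp [lU, pullback.lift_snd]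
  have hq : x ≫ s₁ = v' ≫ s₂ := by
    apply ha.1.hom_ext
    · simp only [s₁, s₂, Functor.map_comp, Category.assoc, Functor.relativelyRepresentable.lift_fst]
      simp only [← Functor.map_comp, ← Functor.map_comp_assoc]
      congr 1
      rw [reassoc_of% (show v' ≫ toUt = lU from hb.1.lift_snd _ _ _)]
      simp [x, lU, pullback.lift_fst]
    · simp only [s₁, s₂, Category.assoc, Functor.relativelyRepresentable.lift_snd]
      apply pullback.hom_ext
      · simp only [l₁, l₂, Category.assoc, pullback.lift_fst, Category.comp_id]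
        rw [reassoc_of% hv']
        simp [v, sV, pullback.lift_snd_assoc]
        exact (Category.id_comp _).symm
      · simp only [l₁, l₂, Category.assoc, pullback.lift_snd]
        rw [hv']
        simp [x, sX, pullback.lift_snd_assoc]
        exact Category.id_comp _
  -- pass to schemes
  let i : P.left ≅ pullback sX.left sV.left :=
    ((IsPullback.of_hasPullback sX sV).map (Over.forget S)).isoPullback
  have hi₁ : i.hom ≫ pullback.fst _ _ = π₁.left := IsPullback.isoPullback_hom_fst _
  have hi₂ : i.hom ≫ pullback.snd _ _ = π₂.left := IsPullback.isoPullback_hom_snd _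
  have hgs₁ : s₁ ≫ gQ = pullback.fst sU ς := (yon S).map_injective (by
    rw [Functor.map_comp, Functor.map_preimage]
    refine ((cancel_mono (𝟙 _)).1 ?_)
    simp only [Category.comp_id]
    exact ha.1.lift_fst _ _ _)
  have hgs₂ : s₂ ≫ gQ = toUt ≫ pullback.fst tU τ := (yon S).map_injective (by
    rw [Functor.map_comp, Functor.map_preimage]
    exact ha.1.lift_fst _ _ _)
  have : Flat ς.left := flat_of_field (K := k) ς.left
  have : Flat τ.left := flat_of_field (K := k) τ.left
  have : Flat (pullback.fst sU ς).left :=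
    MorphismProperty.of_isPullback ((IsPullback.of_hasPullback sU ς).map (Over.forget S)).flip ‹Flat ς.left›
  have : Flat (pullback.fst tU τ).left :=
    MorphismProperty.of_isPullback ((IsPullback.of_hasPullback tU τ).map (Over.forget S)).flip ‹Flat τ.left›
  have : Etale toUt.left := hb.2 _ _ _ (hb.1.isPullback c)
  have key := uniqMax_of_sections (K := K) sX.left sV.left ((ha.1.snd fP).left ≫ i.hom) gQ.left
    x.left (by rw [← Over.comp_left]; simp [x, sX, pullback.lift_snd]; rfl)
    v.left (by rw [← Over.comp_left]; simp [v, sV, pullback.lift_snd]; rfl)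
    s₁.left (by
      rw [← Category.assoc, ← Over.comp_left, show s₁ ≫ ha.1.snd fP = l₁ from ha.1.lift_snd _ _ _]
      apply pullback.hom_ext
      · rw [Category.assoc, hi₁, pullback.lift_fst, ← Over.comp_left, pullback.lift_fst]; rfl
      · rw [Category.assoc, hi₂, pullback.lift_snd, ← Over.comp_left, pullback.lift_snd, Over.comp_left])
    (by rw [← Over.comp_left, hgs₁]; exact Flat.generalizingMap _)
    a'.left v'.left (by rw [← Over.comp_left, hv'])
    s₂.left (by
      rw [← Category.assoc, ← Over.comp_left, show s₂ ≫ ha.1.snd fP = l₂ from ha.1.lift_snd _ _ _]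
      apply pullback.hom_ext
      · rw [Category.assoc, hi₁, pullback.lift_fst, ← Over.comp_left, pullback.lift_fst]; rfl
      · rw [Category.assoc, hi₂, pullback.lift_snd, ← Over.comp_left, pullback.lift_snd])
    (by rw [← Over.comp_left, hgs₂, Over.comp_left]; exact Flat.generalizingMap _)
    (by rw [← Over.comp_left, hq, Over.comp_left])
  have e : x.left ≫ s₁.left ≫ gQ.left = ub.left := by
    rw [← Over.comp_left, hgs₁, ← Over.comp_left, pullback.lift_fst]
  rw [e] at key
  exact hub ▸ key

end Groth.Agent.AlgSpB.GrpUnibranch
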